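import Mathlib

/-! The size of an abelian group of exponent two acting projectively. -/

set_option autoImplicit false

namespace CfsgLib.SignRank

universe u v w

/-- A projective action of `A`. -/
structure ProjAct (A : Type u) [Group A] (K : Type v) [Field K] (V : Type w) [AddCommGroup V] [Module K V] where
  act : A → V →ₗ[K] V
  act_one : act 1 = LinearMap.id
  act_mul : ∀ a b, ∃ c : K, c ≠ 0 ∧ ∀ x, act a (act b x) = c • act (a * b) x

variable {A : Type u} [Group A] {K : Type v} [Field K] {V : Type w} [AddCommGroup V] [Module K V]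

/-- The elements acting by scalars. -/
def scalarSub (P : ProjAct A K V) (hexp : ∀ a : A, a * a = 1) : Subgroup A where
  carrier := {a | ∃ c : K, ∀ x, P.act a x = c • x}
  one_mem' := ⟨1, fun x => by rw [P.act_one, LinearMap.id_apply, one_smul]⟩
  mul_mem' := by
    rintro a b ⟨c, hc⟩ ⟨d, hd⟩
    obtain ⟨e, he, h⟩ := P.act_mul a b
    refine ⟨e⁻¹ * (d * c), fun x => ?_⟩
    rw [← inv_smul_smul₀ he (P.act (a * b) x), ← h, hd, map_smul, hc, smul_smul, smul_smul, mul_assoc]
  inv_mem' := by
    intro a ha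
    rwa [inv_eq_of_mul_eq_one_left (hexp a)]

/-- The elements acting by maps commuting with the whole action. -/
def radical (P : ProjAct A K V) (hexp : ∀ a : A, a * a = 1) : Subgroup A where
  carrier := {a | ∀ b x, P.act a (P.act b x) = P.act b (P.act a x)}
  one_mem' := fun b x => by simp [P.act_one]
  mul_mem' := by
    intro a a' ha ha' b x
    obtain ⟨e, he, h⟩ := P.act_mul a a'
    have h1 : e • P.act (a * a') (P.act b x) = e • P.act b (P.act (a * a') x) := by
      rw [← h, ← map_smul, ← h, ha', ha]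
    exact smul_right_injective V he h1
  inv_mem' := by
    intro a ha
    rwa [inv_eq_of_mul_eq_one_left (hexp a)]

theorem act_ne [Nontrivial V] (P : ProjAct A K V) (hexp : ∀ a : A, a * a = 1) (a : A) {x : V} (hx : x ≠ 0) :
    P.act a x ≠ 0 := fun h => by
  obtain ⟨c, hc, hh⟩ := P.act_mul a a
  have := hh x
  rw [h, map_zero, hexp, P.act_one, LinearMap.id_apply] at this
  exact hx ((smul_eq_zero.1 this.symm).resolve_left hc)

variable [Finite A] [FiniteDimensional K V] [Nontrivial V]

theorem index_radical_le (P : ProjAct A K V) (hexp : ∀ a : A, a * a = 1) :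
    (radical P hexp).index ≤ Module.finrank K V * Module.finrank K V := by
  classical
  have hcomm : ∀ a b : A, a * b = b * a := fun a b => by
    rw [← inv_eq_of_mul_eq_one_left (hexp (a * b)), mul_inv_rev, inv_eq_of_mul_eq_one_left (hexp a),
      inv_eq_of_mul_eq_one_left (hexp b)]
  have hchi : ∀ a b : A, ∃ c : K, ∀ x, P.act a (P.act b x) = c • P.act b (P.act a x) := fun a b => by
    obtain ⟨e, he, h⟩ := P.act_mul a b
    obtain ⟨e', he', h'⟩ := P.act_mul b a
    refine ⟨e * e'⁻¹, fun x => ?_⟩
    rw [h, h', hcomm b a, smul_smul, mul_assoc, inv_mul_cancel₀ he', mul_one]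
  choose χ hχ using hchi
  -- elements in different cosets have different commutation
  have hdiff : ∀ a a' : A, (∀ b, χ a b = χ a' b) → a⁻¹ * a' ∈ radical P hexp := by
    intro a a' h b x
    rw [inv_eq_of_mul_eq_one_left (hexp a)]
    obtain ⟨e, he, hh⟩ := P.act_mul a a'
    have h1 : χ a b * χ a' b = 1 := by
      rw [← h]
      obtain ⟨y, hy⟩ := exists_ne (0 : V)
      have hne := act_ne P hexp b (act_ne P hexp a (act_ne P hexp a hy))
      obtain ⟨f, hf, hff⟩ := P.act_mul a a
      have e1 : P.act a (P.act a (P.act b y)) = (χ a b * χ a b) • P.act b (P.act a (P.act a y)) := by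
        rw [hχ a b y, map_smul, hχ a b, smul_smul]
      rw [hff, hexp, P.act_one, LinearMap.id_apply, hff, hexp, P.act_one, LinearMap.id_apply, map_smul,
        smul_smul] at e1
      have e2 : f * 1 = χ a b * χ a b * f := by
        rw [mul_one]; exact smul_left_injective K (act_ne P hexp b hy) e1
      exact (mul_left_cancel₀ hf (e2.trans (mul_comm _ f))).symm
    have h2 : e • P.act (a * a') (P.act b x) = e • P.act b (P.act (a * a') x) := by
      rw [← hh, ← map_smul, ← hh, hχ a', map_smul, hχ a, smul_smul, mul_comm, h1, one_smul]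
    exact smul_right_injective V he h2
  let g : A ⧸ radical P hexp → (V →ₗ[K] V) := fun q => P.act q.out
  have hind : LinearIndependent K g := by
    rw [linearIndependent_iff']
    intro s
    induction s using Finset.induction with
    | empty => simp
    | @insert q0 s hq0 ih =>
      intro c hc
      have hsum : ∀ b x, ∑ q ∈ s, (c q * (χ q.out b - χ q0.out b)) • P.act b (P.act q.out x) = 0 := by
        intro b x
        have h1 := LinearMap.congr_fun hc (P.act b x)
        have h2 := congrArg (P.act b) (LinearMap.congr_fun hc x)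
        simp only [LinearMap.sum_apply, LinearMap.add_apply, map_add, LinearMap.smul_apply, LinearMap.zero_apply,
          map_sum, map_smul, map_zero, Finset.sum_insert hq0, g] at h1 h2
        simp only [fun a => hχ a b x, smul_smul] at h1
        have h3 : (c q0 * χ q0.out b) • P.act b (P.act q0.out x) +
            ∑ q ∈ s, (c q * χ q0.out b) • P.act b (P.act q.out x) = 0 := by
          have := congrArg (fun t => χ q0.out b • t) h2
          simpa only [smul_add, Finset.smul_sum, smul_smul, smul_zero, mul_comm (χ q0.out b)] using this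
        have := congrArg₂ (· - ·) h1 h3
        simpa only [add_sub_add_left_eq_sub, ← Finset.sum_sub_distrib, ← sub_smul, ← mul_sub, sub_zero] using this
      have hs : ∀ b, ∀ q ∈ s, c q * (χ q.out b - χ q0.out b) = 0 := fun b => ih _ <| by
        refine LinearMap.ext fun x => ?_
        have h0 := hsum b x
        have hinj : Function.Injective (P.act b) := (injective_iff_map_eq_zero _).2 fun y hy => by
          by_contra hy0; exact act_ne P hexp b hy0 hy
        simp only [LinearMap.sum_apply, LinearMap.smul_apply, LinearMap.zero_apply, g]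
        apply hinj
        rw [map_sum, map_zero]
        simpa only [map_smul] using h0
      have hs0 : ∀ q ∈ s, c q = 0 := by
        intro q hq
        by_contra hne
        have heq : ∀ b, χ q.out b = χ q0.out b := fun b =>
          sub_eq_zero.1 ((mul_eq_zero.1 (hs b q hq)).resolve_left hne)
        have := QuotientGroup.eq.2 (hdiff _ _ heq)
        rw [QuotientGroup.out_eq', QuotientGroup.out_eq'] at this
        exact hq0 (this ▸ hq)
      intro q hq
      rcases Finset.mem_insert.1 hq with rfl | hq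
      · obtain ⟨y, hy⟩ := exists_ne (0 : V)
        have h1 := LinearMap.congr_fun hc y
        rw [Finset.sum_insert hq0, Finset.sum_eq_zero (fun q' hq' => by rw [hs0 q' hq', zero_smul]), add_zero,
          LinearMap.smul_apply, LinearMap.zero_apply, smul_eq_zero] at h1
        exact h1.resolve_right (act_ne P hexp _ hy)
      · exact hs0 q hq
  haveI := Fintype.ofFinite (A ⧸ radical P hexp)
  have := hind.fintype_card_le_finrank
  rwa [Module.finrank_linearMap, Fintype.card_eq_nat_card] at this

/-- The restriction to an invariant subspace. -/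
def restrict (P : ProjAct A K V) (W : Submodule K V) (hW : ∀ a, ∀ x ∈ W, P.act a x ∈ W) : ProjAct A K W where
  act a := (P.act a).restrict (hW a)
  act_one := LinearMap.ext fun x => Subtype.ext (by simp [P.act_one])
  act_mul a b := by
    obtain ⟨c, hc, h⟩ := P.act_mul a b
    exact ⟨c, hc, fun x => Subtype.ext (h x)⟩

/-- The main bound. -/
theorem bound : ∀ (n : ℕ) {W : Type w} [AddCommGroup W] [Module K W] [FiniteDimensional K W] [Nontrivial W],
    Module.finrank K W = n → IsAlgClosed K → (2 : K) ≠ 0 → ∀ (P : ProjAct A K W) (hexp : ∀ a : A, a * a = 1),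
      ∃ r : ℕ, Nat.card (radical P hexp) ≤ 2 ^ r * Nat.card (scalarSub P hexp) ∧
        (radical P hexp).index * (r + 1) ^ 2 ≤ n * n := by
  intro n
  induction n using Nat.strong_induction_on with
  | _ n ih =>
  intro W _ _ _ _ hn hK h2 P hexp
  classical
  by_cases hle : radical P hexp ≤ scalarSub P hexp
  · refine ⟨0, ?_, ?_⟩
    · rw [pow_zero, one_mul]; exact Subgroup.card_le_of_le hle
    · rw [zero_add, one_pow, mul_one, ← hn]; exact index_radical_le P hexp
  obtain ⟨r0, hr0, hr0s⟩ := SetLike.not_le_iff_exists.1 hle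
  obtain ⟨c, hc, hcc⟩ := P.act_mul r0 r0
  obtain ⟨μ, hμ⟩ := IsAlgClosed.exists_eq_mul_self c
  have hsq : ∀ x, P.act r0 (P.act r0 x) = (μ * μ) • x := fun x => by
    rw [hcc, hexp, P.act_one, LinearMap.id_apply, hμ]
  have hμ0 : μ ≠ 0 := fun e => hc (by rw [hμ, e, mul_zero])
  let W₁ : Submodule K W := Module.End.eigenspace (P.act r0) μ
  let W₂ : Submodule K W := Module.End.eigenspace (P.act r0) (-μ)
  have hinv : ∀ (ν : K) (a : A) (x : W), x ∈ Module.End.eigenspace (P.act r0) ν →
      P.act a x ∈ Module.End.eigenspace (P.act r0) ν := fun ν a x hx => by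
    rw [Module.End.mem_eigenspace_iff] at hx ⊢
    rw [hr0 a x, hx, map_smul]
  have hdec : ∀ x, ∃ y ∈ W₁, ∃ z ∈ W₂, x = y + z := fun x => by
    refine ⟨(2 * μ)⁻¹ • (μ • x + P.act r0 x), ?_, (2 * μ)⁻¹ • (μ • x - P.act r0 x), ?_, ?_⟩
    · simp only [W₁, Module.End.mem_eigenspace_iff, map_smul, map_add, hsq]; module
    · simp only [W₂, Module.End.mem_eigenspace_iff, map_smul, map_sub, hsq]; module
    · rw [← smul_add, add_add_sub_cancel, ← add_smul, smul_smul, ← two_mul,
        inv_mul_cancel₀ (mul_ne_zero h2 hμ0), one_smul]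
  have hdis : Disjoint W₁ W₂ := Submodule.disjoint_def.2 fun x h1 h2' => by
    have e1 : P.act r0 x = μ • x := Module.End.mem_eigenspace_iff.1 h1
    have e2 : P.act r0 x = (-μ) • x := Module.End.mem_eigenspace_iff.1 h2'
    rw [e1] at e2
    have h3 : ((2 : K) * μ) • x = 0 := by
      rw [two_mul, add_smul]; nth_rewrite 1 [e2]; rw [← add_smul, neg_add_cancel, zero_smul]
    exact (smul_eq_zero.1 h3).resolve_left (mul_ne_zero h2 hμ0)
  have hne1 : W₁ ≠ ⊥ := fun e => hr0s ⟨-μ, fun x => by
    obtain ⟨y, hy, z, hz, rfl⟩ := hdec x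
    obtain rfl : y = 0 := (Submodule.mem_bot K).1 (e ▸ hy)
    rw [zero_add]; exact Module.End.mem_eigenspace_iff.1 hz⟩
  have hne2 : W₂ ≠ ⊥ := fun e => hr0s ⟨μ, fun x => by
    obtain ⟨y, hy, z, hz, rfl⟩ := hdec x
    obtain rfl : z = 0 := (Submodule.mem_bot K).1 (e ▸ hz)
    rw [add_zero]; exact Module.End.mem_eigenspace_iff.1 hy⟩
  have hdim : Module.finrank K W₁ + Module.finrank K W₂ = n := by
    rw [← hn, ← Submodule.finrank_sup_add_finrank_inf_eq, hdis.eq_bot, finrank_bot, add_zero,
      show W₁ ⊔ W₂ = ⊤ from eq_top_iff.2 fun x _ => by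
        obtain ⟨y, hy, z, hz, rfl⟩ := hdec x
        exact Submodule.add_mem_sup hy hz, finrank_top]
  haveI : Nontrivial W₁ := Submodule.nontrivial_iff_ne_bot.2 hne1
  haveI : Nontrivial W₂ := Submodule.nontrivial_iff_ne_bot.2 hne2
  have hp1 : 0 < Module.finrank K W₁ := Module.finrank_pos
  have hp2 : 0 < Module.finrank K W₂ := Module.finrank_pos
  let P₁ := restrict P W₁ (fun a x hx => hinv μ a x hx)
  let P₂ := restrict P W₂ (fun a x hx => hinv (-μ) a x hx)
  -- commutation is detected on any invariant non-zero subspace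
  have hrad : ∀ (U : Submodule K W) (hU : ∀ a, ∀ x ∈ U, P.act a x ∈ U), U ≠ ⊥ →
      radical (restrict P U hU) hexp = radical P hexp := by
    intro U hU hU0
    refine le_antisymm (fun a ha b x => ?_) (fun a ha b x => Subtype.ext (ha b x))
    obtain ⟨y, hy, hy0⟩ := Submodule.exists_mem_ne_zero_of_ne_bot hU0
    obtain ⟨e, he, h⟩ := P.act_mul a b
    obtain ⟨e', he', h'⟩ := P.act_mul b a
    have hc2 : a * b = b * a := by
      rw [← inv_eq_of_mul_eq_one_left (hexp (a * b)), mul_inv_rev, inv_eq_of_mul_eq_one_left (hexp a),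
        inv_eq_of_mul_eq_one_left (hexp b)]
    have h1 : P.act a (P.act b y) = P.act b (P.act a y) := congrArg Subtype.val (ha b ⟨y, hy⟩)
    rw [h, h', ← hc2] at h1
    rw [h, h', ← hc2, smul_left_injective K (act_ne P hexp (a * b) hy0) h1]
  obtain ⟨s, hs, hsn⟩ := ih _ (by omega) (W := W₁) rfl hK h2 P₁ hexp
  obtain ⟨t, ht, htn⟩ := ih _ (by omega) (W := W₂) rfl hK h2 P₂ hexp
  rw [hrad _ _ hne1] at hs hsn
  rw [hrad _ _ hne2] at ht htn
  refine ⟨1 + s + t, ?_, ?_⟩
  · set R := radical P hexp
    set S₁ := scalarSub P₁ hexp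
    set S₂ := scalarSub P₂ hexp
    set S := scalarSub P hexp
    have hS1 : S₁ ≤ R := by
      rw [show R = radical P₁ hexp from (hrad _ _ hne1).symm]
      rintro a ⟨d, hd⟩ b x; rw [hd, hd, map_smul]
    have hS2 : S₂ ≤ R := by
      rw [show R = radical P₂ hexp from (hrad _ _ hne2).symm]
      rintro a ⟨d, hd⟩ b x; rw [hd, hd, map_smul]
    have hcap : ∀ a ∈ S₁ ⊓ S₂, a ∈ S ∨ a * r0 ∈ S := by
      rintro a ⟨⟨d1, hd1⟩, ⟨d2, hd2⟩⟩
      have g1 : ∀ y ∈ W₁, P.act a y = d1 • y := fun y hy => congrArg Subtype.val (hd1 ⟨y, hy⟩)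
      have g2 : ∀ y ∈ W₂, P.act a y = d2 • y := fun y hy => congrArg Subtype.val (hd2 ⟨y, hy⟩)
      obtain ⟨e, he, hee⟩ := P.act_mul a a
      have hsq' : ∀ x, P.act a (P.act a x) = e • x := fun x => by
        rw [hee, hexp, P.act_one, LinearMap.id_apply]
      obtain ⟨y, hy, hy0⟩ := Submodule.exists_mem_ne_zero_of_ne_bot hne1
      obtain ⟨z, hz, hz0⟩ := Submodule.exists_mem_ne_zero_of_ne_bot hne2
      have q1 : d1 * d1 = e := smul_left_injective K hy0 (by
        show (d1 * d1) • y = e • y; rw [← hsq', g1 y hy, map_smul, g1 y hy, smul_smul])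
      have q2 : d2 * d2 = e := smul_left_injective K hz0 (by
        show (d2 * d2) • z = e • z; rw [← hsq', g2 z hz, map_smul, g2 z hz, smul_smul])
      rcases mul_self_eq_mul_self_iff.1 (q1.trans q2.symm) with q | q
      · refine Or.inl ⟨d1, fun x => ?_⟩
        obtain ⟨u, hu, v, hv, rfl⟩ := hdec x
        rw [map_add, g1 u hu, g2 v hv, q, smul_add]
      · refine Or.inr ?_
        obtain ⟨f, hf, hff⟩ := P.act_mul a r0
        refine ⟨f⁻¹ * (μ * d1), fun x => ?_⟩
        obtain ⟨u, hu, v, hv, rfl⟩ := hdec x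
        rw [mul_smul, ← inv_smul_smul₀ hf (P.act (a * r0) (u + v)), ← hff, map_add,
          Module.End.mem_eigenspace_iff.1 hu, Module.End.mem_eigenspace_iff.1 hv, map_add, map_smul, map_smul,
          g1 u hu, g2 v hv, q]
        module
    have hc2 : Nat.card (S₁ ⊓ S₂ : Subgroup A) ≤ 2 * Nat.card S := by
      let f : (S₁ ⊓ S₂ : Subgroup A) → Bool × S := fun a =>
        if h : (a : A) ∈ S then (true, ⟨a, h⟩) else (false, ⟨(a : A) * r0, (hcap a a.2).resolve_left h⟩)
      have hf : Function.Injective f := fun a b hab => by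
        by_cases ha : (a : A) ∈ S <;> by_cases hb : (b : A) ∈ S <;> simp [f, ha, hb] at hab
        · exact hab
        · exact hab
      calc Nat.card (S₁ ⊓ S₂ : Subgroup A) ≤ Nat.card (Bool × S) := Nat.card_le_card_of_injective f hf
        _ = _ := by simp [Nat.card_prod]
    have hprod : Nat.card S₁ * Nat.card S₂ ≤ Nat.card R * Nat.card (S₁ ⊓ S₂ : Subgroup A) := by
      let g : S₁ × S₂ → R := fun p => ⟨(p.1 : A) * p.2, mul_mem (hS1 p.1.2) (hS2 p.2.2)⟩
      let f : S₁ × S₂ → R × (S₁ ⊓ S₂ : Subgroup A) := fun p =>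
        let q := Function.invFun g (g p)
        ⟨g p, ⟨(q.1 : A)⁻¹ * p.1, mul_mem (S₁.inv_mem q.1.2) p.1.2, by
          have h : g q = g p := Function.invFun_eq ⟨p, rfl⟩
          have h' : (q.1 : A) * q.2 = p.1 * p.2 := congrArg Subtype.val h
          have : (q.1 : A)⁻¹ * p.1 = q.2 * (p.2 : A)⁻¹ := by
            rw [eq_mul_inv_iff_mul_eq, mul_assoc, ← h', inv_mul_cancel_left]
          rw [this]; exact mul_mem q.2.2 (S₂.inv_mem p.2.2)⟩⟩
      have hf : Function.Injective f := fun a b hab => by
        have h1 : g a = g b := congrArg Prod.fst hab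
        have h2 := congrArg (fun t => ((t.2 : (S₁ ⊓ S₂ : Subgroup A)) : A)) hab
        simp only [f, h1] at h2
        have h3 : (a.1 : A) = b.1 := mul_left_cancel h2
        have h4 : (a.1 : A) * a.2 = b.1 * b.2 := congrArg Subtype.val h1
        rw [h3] at h4
        exact Prod.ext (Subtype.ext h3) (Subtype.ext (mul_left_cancel h4))
      simpa [Nat.card_prod] using Nat.card_le_card_of_injective f hf
    have key := (Nat.mul_le_mul hs ht).trans (le_of_eq (mul_mul_mul_comm _ _ _ _))
    have h1 : Nat.card R * Nat.card R ≤ Nat.card R * (2 ^ (1 + s + t) * Nat.card S) := by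
      calc Nat.card R * Nat.card R ≤ 2 ^ s * 2 ^ t * (Nat.card S₁ * Nat.card S₂) := key
        _ ≤ 2 ^ s * 2 ^ t * (Nat.card R * (2 * Nat.card S)) :=
          Nat.mul_le_mul_left _ (hprod.trans (Nat.mul_le_mul_left _ hc2))
        _ = _ := by rw [pow_add, pow_add]; ring
    exact Nat.le_of_mul_le_mul_left h1 Nat.card_pos
  · rw [← hdim]
    set Q := (radical P hexp).index
    set a := Module.finrank K W₁
    set b := Module.finrank K W₂
    have hm : (Q * (s + 1) * (t + 1)) * (Q * (s + 1) * (t + 1)) ≤ (a * b) * (a * b) := by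
      calc _ = Q * (s + 1) ^ 2 * (Q * (t + 1) ^ 2) := by ring
        _ ≤ a * a * (b * b) := Nat.mul_le_mul hsn htn
        _ = _ := by ring
    have hm' := Nat.mul_self_le_mul_self_iff.1 hm
    nlinarith [hsn, htn, hm']

end CfsgLib.SignRank
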