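import Cfsg.Agent.Lib.SignRank.Bound
import Cfsg.Agent.Lib.OmegaMem
import Cfsg.Agent.Lib.OmegaCenter
import Cfsg.Agent.Lib.StdQuadForms
import Cfsg.Agent.Lib.SympTransvection
import Cfsg.Agent.Lib.FiniteForms.Standard

/-! The odd orthogonal and the symplectic simple groups are not isomorphic. -/

set_option autoImplicit false

namespace CfsgLib.SignRank

open QuadraticMap Module
open scoped commutatorElement

variable {F : Type*} [Field F] [Fintype F] {ι : Type} [Fintype ι] [DecidableEq ι]
  (Q : QuadraticForm F (ι → F))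

theorem exists_sum_two_sq : ∃ s t : F, s ^ 2 + t ^ 2 = -1 := by
  obtain ⟨p, hp⟩ := CharP.exists F
  haveI := hp
  haveI := Fact.mk (CharP.char_is_prime F p)
  obtain ⟨a, b, h⟩ := ZMod.sq_add_sq p (-1)
  exact ⟨ZMod.castHom dvd_rfl F a, ZMod.castHom dvd_rfl F b, by rw [← map_pow, ← map_pow, ← map_add, h, map_neg, map_one]⟩

/-- Make all values of an orthogonal family equal. -/
theorem exists_equal_norm {κ : Type} [Fintype κ] [DecidableEq κ] {c : F} (hc : c ≠ -c) :
    ∀ (k : ℕ) (e : κ → ι → F), (∀ i j, i ≠ j → polar Q (e i) (e j) = 0) → (∀ i, Q (e i) = c ∨ Q (e i) = -c) →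
      Nat.card {i // Q (e i) = -c} = 2 * k →
        ∃ e' : κ → ι → F, (∀ i j, i ≠ j → polar Q (e' i) (e' j) = 0) ∧ ∀ i, Q (e' i) = c := by
  classical
  intro k
  induction k with
  | zero =>
    intro e ho hv h0
    refine ⟨e, ho, fun i => (hv i).resolve_right fun h => ?_⟩
    rw [Nat.mul_zero, Nat.card_eq_zero] at h0
    rcases h0 with h0 | h0
    · exact h0.false ⟨i, h⟩
    · exact not_finite {i // Q (e i) = -c}
  | succ k ih =>
    intro e ho hv hcard
    haveI : Nontrivial {i // Q (e i) = -c} := Finite.one_lt_card_iff_nontrivial.1 (by omega)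
    obtain ⟨⟨a, ha⟩, ⟨b, hb⟩, hab⟩ := exists_pair_ne {i // Q (e i) = -c}
    have hab' : a ≠ b := fun h => hab (Subtype.ext h)
    obtain ⟨s, t, hst⟩ := exists_sum_two_sq (F := F)
    let e' : κ → ι → F := fun i =>
      if i = a then s • e a + t • e b else if i = b then (-t) • e a + s • e b else e i
    have hea : e' a = s • e a + t • e b := if_pos rfl
    have heb : e' b = (-t) • e a + s • e b := by simp [e', Ne.symm hab']
    have hei : ∀ i, i ≠ a → i ≠ b → e' i = e i := fun i h1 h2 => by simp [e', h1, h2]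
    have hpab := ho a b hab'
    have hpaa : ∀ x, polar Q x x = 2 * Q x := fun x => by
      rw [QuadraticMap.polar_self, nsmul_eq_mul, Nat.cast_ofNat]
    have hab0 : polar Q (e' a) (e' b) = 0 := by
      rw [hea, heb, polar_add_left, polar_add_right, polar_add_right, polar_smul_left, polar_smul_left,
        polar_smul_left, polar_smul_left, polar_smul_right, polar_smul_right, polar_smul_right, polar_smul_right,
        hpab, polar_comm Q (e b) (e a), hpab, hpaa, hpaa, ha, hb]
      simp only [smul_eq_mul]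
      ring
    have hai : ∀ i, i ≠ a → i ≠ b → polar Q (e' a) (e' i) = 0 ∧ polar Q (e' b) (e' i) = 0 := fun i h1 h2 => by
      rw [hea, heb, hei i h1 h2]
      simp [polar_add_left, polar_smul_left, ho a i (Ne.symm h1), ho b i (Ne.symm h2)]
    have hho : ∀ i j, i ≠ j → polar Q (e' i) (e' j) = 0 := by
      intro i j hij
      by_cases hia : i = a
      · subst hia
        by_cases hjb : j = b
        · subst hjb; exact hab0
        · exact (hai j hij.symm hjb).1
      by_cases hib : i = b
      · subst hib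
        by_cases hja : j = a
        · subst hja; rw [polar_comm]; exact hab0
        · exact (hai j hja hij.symm).2
      by_cases hja : j = a
      · subst hja; rw [polar_comm]; exact (hai i hia hib).1
      by_cases hjb : j = b
      · subst hjb; rw [polar_comm]; exact (hai i hia hib).2
      rw [hei i hia hib, hei j hja hjb]; exact ho i j hij
    have hQa : Q (e' a) = c ∧ Q (e' b) = c := by
      rw [hea, heb]
      constructor <;>
      · rw [QuadraticMap.map_add Q, QuadraticMap.map_smul, QuadraticMap.map_smul, polar_smul_left, polar_smul_right,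
          hpab, ha, hb]
        simp only [smul_eq_mul, mul_zero, add_zero]
        linear_combination (-c) * hst
    refine ih e' hho (fun i => ?_) ?_
    · by_cases hia : i = a
      · subst hia; exact Or.inl hQa.1
      by_cases hib : i = b
      · subst hib; exact Or.inl hQa.2
      rw [hei i hia hib]; exact hv i
    · have hset : ({i | Q (e' i) = -c} : Set κ) = ({i | Q (e i) = -c} : Set κ) \ {a, b} := by
        ext i
        simp only [Set.mem_setOf_eq, Set.mem_diff, Set.mem_insert_iff, Set.mem_singleton_iff, not_or]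
        by_cases hia : i = a
        · subst hia; simp [hQa.1, hc]
        by_cases hib : i = b
        · subst hib; simp [hQa.2, hc]
        simp [hei i hia hib, hia, hib]
      have h1 : ({i | Q (e i) = -c} : Set κ).ncard = 2 * (k + 1) := by rw [← Nat.card_coe_set_eq]; exact hcard
      show Nat.card ({i | Q (e' i) = -c} : Set κ) = 2 * k
      rw [Nat.card_coe_set_eq, hset, Set.ncard_sdiff (by
        rintro x (rfl | rfl)
        exacts [ha, hb]), h1, Set.ncard_pair hab']
      omega

/-- An orthogonal family of one norm. -/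
theorem exists_frame (m : ℕ) (h2 : (2 : F) ≠ 0) :
    ∃ (c : F) (e : Unit ⊕ (Fin m ⊕ Fin m) → (Unit ⊕ (Fin m ⊕ Fin m) → F)), c ≠ 0 ∧
      (∀ i j, i ≠ j → polar (StdQuadForms.Qo (F := F) m) (e i) (e j) = 0) ∧
      ∀ i, StdQuadForms.Qo (F := F) m (e i) = c := by
  classical
  let Q := StdQuadForms.Qo (F := F) m
  let e : Unit ⊕ (Fin m ⊕ Fin m) → (Unit ⊕ (Fin m ⊕ Fin m) → F) := Sum.elim (fun _ => Pi.single (Sum.inl ()) 1) (Sum.elim
    (fun i => Pi.single (Sum.inr (Sum.inl i)) 1 + Pi.single (Sum.inr (Sum.inr i)) 1)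
    (fun i => Pi.single (Sum.inr (Sum.inl i)) 1 - Pi.single (Sum.inr (Sum.inr i)) 1))
  have hQ : ∀ v : (Unit ⊕ (Fin m ⊕ Fin m) → F), Q v = Cfsg.quadFormOdd m F v := fun v => StdQuadForms.Qo_apply m v
  have hpol : ∀ u v : (Unit ⊕ (Fin m ⊕ Fin m) → F), polar Q u v = 2 * (u (Sum.inl ()) * v (Sum.inl ())) +
      ∑ i, (u (Sum.inr (Sum.inl i)) * v (Sum.inr (Sum.inr i)) + v (Sum.inr (Sum.inl i)) * u (Sum.inr (Sum.inr i))) := by
    intro u v
    simp only [polar, hQ, Cfsg.quadFormOdd, Pi.add_apply]
    rw [show ∀ a b c d f : F, ∀ S : F, (a + S) - (b + c) - (d + f) = (a - b - d) + (S - c - f) from fun a b c d f S => by ring,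
      ← Finset.sum_sub_distrib, ← Finset.sum_sub_distrib]
    congr 1
    · ring
    · exact Finset.sum_congr rfl fun i _ => by ring
  have hval : ∀ i, Q (e i) = match i with | .inl _ => 1 | .inr (.inl _) => 1 | .inr (.inr _) => -1 := by
    rintro (u | i | i) <;>
      simp [hQ, Cfsg.quadFormOdd, e, Pi.single_apply, Pi.sub_apply, Pi.add_apply, Finset.sum_ite_eq', ite_mul, mul_ite,
        add_mul, mul_add, sub_mul, mul_sub, Finset.sum_add_distrib, Finset.sum_sub_distrib]
  have horth : ∀ i j, i ≠ j → polar Q (e i) (e j) = 0 := by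
    rintro (u | i | i) (v | j | j) hij <;>
      simp [hpol, e, Pi.single_apply, Pi.sub_apply, Pi.add_apply, Finset.sum_add_distrib, Finset.sum_sub_distrib, Finset.sum_ite_eq',
        ite_mul, mul_ite, add_mul, sub_mul, mul_add, mul_sub] <;>
      (try split_ifs) <;> (try subst_vars) <;> simp_all
  have h1 : (1 : F) ≠ -1 := fun h => h2 (by linear_combination h)
  rcases Nat.even_or_odd' m with ⟨k, hk | hk⟩
  · obtain ⟨e', ho, hv⟩ := exists_equal_norm Q h1 k e horth (fun i => by
      rw [hval]; rcases i with u | i | i <;> simp) (by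
      rw [show 2 * k = Nat.card (Fin m) by rw [Nat.card_fin]; omega]
      refine Nat.card_congr ⟨fun i => match i with
          | ⟨.inr (.inr j), _⟩ => j
          | ⟨.inl _, h⟩ => absurd ((hval _).symm.trans h) h1
          | ⟨.inr (.inl _), h⟩ => absurd ((hval _).symm.trans h) h1,
        fun j => ⟨.inr (.inr j), hval _⟩, ?_, fun j => rfl⟩
      rintro ⟨u | i | i, h⟩
      · exact absurd ((hval _).symm.trans h) h1
      · exact absurd ((hval _).symm.trans h) h1
      · rfl)
    exact ⟨1, e', one_ne_zero, ho, hv⟩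
  · obtain ⟨e', ho, hv⟩ := exists_equal_norm Q (c := -1) (by rw [neg_neg]; exact h1.symm) (k + 1) e horth (fun i => by
      rw [hval]; rcases i with u | i | i <;> simp) (by
      rw [show 2 * (k + 1) = Nat.card (Unit ⊕ Fin m) by rw [Nat.card_sum, Nat.card_fin, Nat.card_eq_fintype_card (α := Unit), Fintype.card_unit]; omega]
      refine Nat.card_congr ⟨fun i => match i with
          | ⟨.inl u, _⟩ => .inl u
          | ⟨.inr (.inl j), _⟩ => .inr j
          | ⟨.inr (.inr _), h⟩ => absurd ((hval _).symm.trans h) (by simpa using h1.symm),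
        fun j => match j with
          | .inl u => ⟨.inl u, by rw [hval]; simp⟩
          | .inr j => ⟨.inr (.inl j), by rw [hval]; simp⟩, ?_, ?_⟩
      · rintro ⟨u | i | i, h⟩
        · rfl
        · rfl
        · exact absurd ((hval _).symm.trans h) (by simpa using h1.symm)
      · rintro (u | j) <;> rfl)
    exact ⟨-1, e', neg_ne_zero.2 one_ne_zero, ho, hv⟩

/-- A copy of an elementary abelian group of order `2 ^ (2m)` in the odd orthogonal group. -/
theorem exists_signs (m : ℕ) (hm : 3 ≤ m) (h2 : (2 : F) ≠ 0) :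
    ∃ f : (MonoidHom.ker (∏ i : Unit ⊕ (Fin m ⊕ Fin m),
        Pi.evalMonoidHom (fun _ : Unit ⊕ (Fin m ⊕ Fin m) => ℤˣ) i)) →*
      Cfsg.POmega F (Cfsg.quadFormOdd m F), Function.Injective f := by
  classical
  rw [show Cfsg.quadFormOdd m F = ⇑(StdQuadForms.Qo (F := F) m) from funext fun v => (StdQuadForms.Qo_apply m v).symm]
  set Q := StdQuadForms.Qo (F := F) m
  let I := Unit ⊕ (Fin m ⊕ Fin m)
  have hQ := StdQuadForms.Qo_nondeg (F := F) h2 m
  obtain ⟨c, e, hc, ho, hv⟩ := exists_frame (F := F) m h2
  have hli : LinearIndependent F e := by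
    rw [Fintype.linearIndependent_iff]
    intro g hg i
    have h : polar Q (∑ j, g j • e j) (e i) = 0 := by rw [hg, polar_zero_left]
    rw [show polar Q (∑ j, g j • e j) (e i) = ∑ j, g j * polar Q (e j) (e i) from by
      rw [← QuadraticMap.polarBilin_apply_apply, map_sum, LinearMap.sum_apply]; simp,
      Finset.sum_eq_single i (fun j _ hj => by rw [ho j i hj, mul_zero]) (by simp),
      QuadraticMap.polar_self, hv] at h
    simpa [hc, h2] using h
  let bs : Basis I F (I → F) := basisOfLinearIndependentOfCardEqFinrank' e hli (by rw [Module.finrank_pi])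
  have hbs : ∀ i, bs i = e i := fun i => by simp [bs]
  have hmain : ∀ s : I → ℤˣ, ∏ i, s i = 1 → ∃ g : Cfsg.isometryGroup F ⇑Q, g ∈ Cfsg.Omega F ⇑Q ∧
      ∀ i, g.1.1.mulVec (e i) = ((s i : ℤ) : F) • e i := by
    intro s hs
    set N := Finset.univ.filter fun i => s i = -1
    set vs := N.toList.map e
    have hev : Even N.card := by
      rw [← Finset.prod_filter_mul_prod_filter_not Finset.univ (fun i => s i = -1),
        Finset.prod_congr rfl (fun i hi => (Finset.mem_filter.1 hi).2), Finset.prod_const,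
        Finset.prod_eq_one fun i hi => (Int.units_eq_one_or (s i)).resolve_right (Finset.mem_filter.1 hi).2,
        mul_one] at hs
      by_contra h
      rw [(Nat.not_even_iff_odd.1 h).neg_one_pow] at hs
      exact absurd hs (by decide)
    have hne : ∀ v ∈ vs, Q v ≠ 0 := by
      intro v hv'
      obtain ⟨i, -, rfl⟩ := List.mem_map.1 hv'
      rw [hv]; exact hc
    obtain ⟨g, hg, -⟩ := OmegaMem.exists_refl_prod Q h2 hQ vs hne
    refine ⟨g, (OmegaMem.omega_iff_prod Q h2 (by simp; omega) hQ g vs hne hg).2 ⟨by simpa [vs] using hev, ?_⟩, fun i => ?_⟩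
    · obtain ⟨k, hk⟩ := hev
      have : (vs.map fun v => Q v).prod = c ^ N.card := by
        rw [List.eq_replicate_of_mem (a := c) (l := vs.map fun v => Q v) (fun x hx => by
          obtain ⟨v, hv', rfl⟩ := List.mem_map.1 hx
          obtain ⟨i, -, rfl⟩ := List.mem_map.1 hv'
          exact hv i), List.prod_replicate]
        simp [vs]
      rw [this, hk]; exact ⟨c ^ k, pow_add c k k⟩
    · rw [hg]
      by_cases hi : s i = -1
      · rw [OmegaMem.prod_mulVec_neg Q vs (e i) (List.mem_map.2 ⟨i, by simp [N, hi], rfl⟩)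
          (List.Pairwise.map e (fun a b hab => ho a b hab) N.nodup_toList) (by rw [hv]; exact hc), hi]
        simp
      · rw [OmegaMem.prod_mulVec_fix Q vs (e i) (fun v hv' => by
          obtain ⟨j, hj, rfl⟩ := List.mem_map.1 hv'
          exact ho j i fun h => hi (by simpa [N, h] using hj)), (Int.units_eq_one_or (s i)).resolve_right hi]
        simp
  have huniq : ∀ g h : Cfsg.isometryGroup F ⇑Q, (∀ i, g.1.1.mulVec (e i) = h.1.1.mulVec (e i)) → g = h :=
    fun g h hh => Subtype.ext (Units.ext (Matrix.toLin'.injective (bs.ext fun i => by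
      rw [hbs, Matrix.toLin'_apply, Matrix.toLin'_apply]; exact hh i)))
  let K0 := MonoidHom.ker (∏ i : I, Pi.evalMonoidHom (fun _ : I => ℤˣ) i)
  have hK0 : ∀ s : K0, ∏ i, (s : I → ℤˣ) i = 1 := fun s => by
    have := MonoidHom.mem_ker.1 s.2
    simpa [MonoidHom.finsetProd_apply] using this
  choose T hT hTe using fun s : K0 => hmain s (hK0 s)
  let f0 : K0 →* Cfsg.Omega F ⇑Q :=
    MonoidHom.mk' (fun s => ⟨T s, hT s⟩) fun s t => Subtype.ext (huniq _ _ fun i => by
      show (T (s * t)).1.1.mulVec (e i) = ((T s).1.1 * (T t).1.1).mulVec (e i)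
      rw [← Matrix.mulVec_mulVec, hTe, hTe, Matrix.mulVec_smul, hTe, smul_smul, Subgroup.coe_mul, Pi.mul_apply,
        Units.val_mul, Int.cast_mul, mul_comm])
  refine ⟨(QuotientGroup.mk' _).comp f0, (injective_iff_map_eq_one _).2 fun s hs => ?_⟩
  have hz : f0 s ∈ Subgroup.center (Cfsg.Omega F ⇑Q) := (QuotientGroup.eq_one_iff _).1 hs
  obtain ⟨σ, -, hσ⟩ := OmegaCenter.central_scalar Q hQ (by rw [Module.finrank_pi]; simp; omega)
    (SpinorMatrix.isoEquiv Q (T s)) (fun g h => by
      obtain ⟨g', rfl⟩ := (SpinorMatrix.isoEquiv Q).surjective g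
      obtain ⟨h', rfl⟩ := (SpinorMatrix.isoEquiv Q).surjective h
      rw [← map_commutatorElement]
      have hmem : ⁅g', h'⁆ ∈ Cfsg.Omega F ⇑Q :=
        Subgroup.commutator_mem_commutator (Subgroup.mem_top _) (Subgroup.mem_top _)
      exact Commute.map (congrArg Subtype.val (Subgroup.mem_center_iff.1 hz ⟨_, hmem⟩)).symm _)
  have hall : ∀ i, (((s : I → ℤˣ) i : ℤ) : F) = σ := fun i => by
    have := hσ (e i)
    rw [SpinorMatrix.isoEquiv_apply, hTe] at this
    exact smul_left_injective F (fun h0 => hc (by rw [← hv i, h0, QuadraticMap.map_zero])) this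
  have hcast : Function.Injective (fun u : ℤˣ => ((u : ℤ) : F)) := by
    intro u v h
    rcases Int.units_eq_one_or u with rfl | rfl <;> rcases Int.units_eq_one_or v with rfl | rfl <;>
      simp at h ⊢ <;> exact absurd (by first | linear_combination h | linear_combination -h) h2
  obtain ⟨i0⟩ : Nonempty I := ⟨Sum.inl ()⟩
  have heq : ∀ i, (s : I → ℤˣ) i = (s : I → ℤˣ) i0 := fun i => hcast ((hall i).trans (hall i0).symm)
  have h1 := hK0 s
  rw [Finset.prod_congr rfl (fun i _ => heq i), Finset.prod_const] at h1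
  refine Subtype.ext (funext fun i => ?_)
  rw [heq i]
  show (s : I → ℤˣ) i0 = 1
  rcases Int.units_eq_one_or ((s : I → ℤˣ) i0) with h | h
  · exact h
  · rw [h, Odd.neg_one_pow (by simp [I, parity_simps])] at h1
    exact absurd h1 (by decide)

theorem arith (m j r : ℕ) (hm : 3 ≤ m) (hjr : 2 * m ≤ j + r) : 4 * (m * m) < 2 ^ j * (r + 1) ^ 2 := by
  induction j generalizing r with
  | zero => simp only [pow_zero, one_mul]; nlinarith
  | succ j ih =>
    by_cases hr : 3 ≤ r
    · have h := ih (r + 1) (by omega)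
      refine lt_of_lt_of_le h ?_
      rw [pow_succ 2 j, mul_assoc]
      exact Nat.mul_le_mul_left _ (by nlinarith)
    · have hpow : ∀ k, 4 ≤ k → k ^ 2 * 1 ≤ 2 ^ k := by
        intro k hk
        induction k, hk using Nat.le_induction with
        | base => norm_num
        | succ k hk ih => rw [pow_succ 2 k]; nlinarith
      rcases (show r = 0 ∨ r = 1 ∨ r = 2 by omega) with rfl | rfl | rfl
      · have h1 : 4 * (m * m) < 2 ^ (2 * m) := by
          have h2 : ∀ k, 3 ≤ k → 2 * k < 2 ^ k := by
            intro k hk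
            induction k, hk using Nat.le_induction with
            | base => norm_num
            | succ k hk ih => rw [pow_succ]; omega
          have := Nat.mul_lt_mul'' (h2 m hm) (h2 m hm)
          rw [← pow_add, ← two_mul] at this
          linarith
        have : 2 ^ (2 * m) ≤ 2 ^ (j + 1) := Nat.pow_le_pow_right (by norm_num) (by omega)
        simpa using lt_of_lt_of_le h1 this
      · have h0 := hpow (2 * m) (by omega)
        have : 2 ^ (2 * m) ≤ 2 ^ (j + 1) * 2 := by
          rw [← pow_succ]; exact Nat.pow_le_pow_right (by norm_num) (by omega)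
        nlinarith
      · have h0 := hpow (2 * m) (by omega)
        have : 2 ^ (2 * m) ≤ 2 ^ (j + 1) * 4 := by
          rw [show (4 : ℕ) = 2 ^ 2 from rfl, ← pow_add]; exact Nat.pow_le_pow_right (by norm_num) (by omega)
        nlinarith

/-- The main result. -/
theorem psp_not_iso_pomega (hodd : Odd (Fintype.card F)) (m : ℕ) (hm : 3 ≤ m) :
    IsEmpty (Cfsg.PSp m F ≃* Cfsg.POmega F (Cfsg.quadFormOdd m F)) := by
  classical
  refine ⟨fun Φ => ?_⟩
  have h2 : (2 : F) ≠ 0 := FiniteForms.two_ne_zero_of_odd (F := F) rfl hodd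
  obtain ⟨f, hf⟩ := exists_signs (F := F) m hm h2
  let I := Unit ⊕ (Fin m ⊕ Fin m)
  let A := MonoidHom.ker (∏ i : I, Pi.evalMonoidHom (fun _ : I => ℤˣ) i)
  let g : A →* Cfsg.PSp m F := Φ.symm.toMonoidHom.comp f
  have hg : Function.Injective g := Φ.symm.injective.comp hf
  have hexp : ∀ a : A, a * a = 1 := fun a => Subtype.ext (funext fun i => Int.units_mul_self _)
  have hA : 2 ^ (2 * m) ≤ Nat.card A := by
    have h1 := A.card_mul_index
    have h3 : A.index ≤ 2 := by
      rw [Subgroup.index_ker]
      exact (Subgroup.card_le_card_group _).trans (by simp [Nat.card_eq_fintype_card, Fintype.card_units_int])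
    have h4 : Nat.card (I → ℤˣ) = 2 ^ (2 * m + 1) := by
      simp [I, Nat.card_eq_fintype_card, Fintype.card_units_int, two_mul, add_comm, add_left_comm]
    rw [h4, pow_succ] at h1
    nlinarith
  -- lift to matrices over an algebraic closure
  let K := AlgebraicClosure F
  let ψ : F →+* K := algebraMap F K
  let J := Fin m ⊕ Fin m
  let lift : Cfsg.PSp m F → Matrix.symplecticGroup (Fin m) F := fun x => if x = 1 then 1 else x.out
  have hlift : ∀ x, ((lift x : Matrix.symplecticGroup (Fin m) F) : Cfsg.PSp m F) = x := fun x => by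
    by_cases h : x = 1
    · simp [lift, h]
    · simp [lift, h]
  have hsc : ∀ z : Matrix.symplecticGroup (Fin m) F, z ∈ Subgroup.center _ → ∃ r : F, r ≠ 0 ∧
      z.1 = Matrix.scalar J r := fun z hz => by
    obtain ⟨r, hr⟩ := SympTransvection.scalar_of_central z hz
    refine ⟨r, fun h0 => ?_, hr⟩
    have h1 := congrArg (fun t : Matrix.symplecticGroup (Fin m) F => t.1) (inv_mul_cancel z)
    rw [Submonoid.coe_mul, hr, h0, map_zero, mul_zero] at h1
    have := congrFun (congrFun h1 (Sum.inl ⟨0, by omega⟩)) (Sum.inl ⟨0, by omega⟩)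
    simp at this
  have hψsc : ∀ (r : F) (v : J → K), ((Matrix.scalar J r).map ψ).mulVec v = ψ r • v := fun r v => by
    have e : (Matrix.scalar J r).map ψ = ψ r • (1 : Matrix J J K) := by
      ext i j; by_cases h : i = j <;> simp [h, Matrix.one_apply]
    rw [e, Matrix.smul_mulVec, Matrix.one_mulVec]
  let P : ProjAct A K (J → K) :=
    { act := fun a => Matrix.toLin' ((lift (g a)).1.map ψ)
      act_one := by
        rw [map_one, show lift 1 = 1 from if_pos rfl]
        simp
      act_mul := fun a b => by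
        have hc : (lift (g (a * b)))⁻¹ * (lift (g a) * lift (g b)) ∈ Subgroup.center _ := by
          rw [← QuotientGroup.eq_one_iff, QuotientGroup.mk_mul, QuotientGroup.mk_mul, QuotientGroup.mk_inv,
            hlift, hlift, hlift, ← map_mul, inv_mul_cancel]
        obtain ⟨r, hr, hz⟩ := hsc _ hc
        refine ⟨ψ r, (map_ne_zero ψ).2 hr, fun x => ?_⟩
        have hprod : (lift (g a)).1 * (lift (g b)).1 = (lift (g (a * b))).1 * Matrix.scalar J r := by
          rw [← hz, ← Submonoid.coe_mul, ← Submonoid.coe_mul, mul_inv_cancel_left]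
        rw [Matrix.toLin'_apply, Matrix.toLin'_apply, Matrix.toLin'_apply, Matrix.mulVec_mulVec, ← Matrix.map_mul,
          hprod, Matrix.map_mul, ← Matrix.mulVec_mulVec, hψsc, Matrix.mulVec_smul] }
  haveI : Nonempty J := ⟨Sum.inl ⟨0, by omega⟩⟩
  have hS : scalarSub P hexp = ⊥ := by
    rw [Subgroup.eq_bot_iff_forall]
    rintro a ⟨c, hc⟩
    apply hg
    rw [map_one, ← hlift (g a), QuotientGroup.eq_one_iff, Subgroup.mem_center_iff]
    intro z
    refine Subtype.ext ?_
    have hmat : (lift (g a)).1.map ψ = c • (1 : Matrix J J K) := Matrix.toLin'.injective (by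
      refine LinearMap.ext fun x => ?_
      rw [show Matrix.toLin' ((lift (g a)).1.map ψ) x = c • x from hc x]
      simp)
    apply Matrix.map_injective ψ.injective
    show ((z.1 * (lift (g a)).1).map ψ) = ((lift (g a)).1 * z.1).map ψ
    rw [Matrix.map_mul, Matrix.map_mul, hmat, Matrix.mul_smul, Matrix.mul_one, Matrix.smul_mul, Matrix.one_mul]
  obtain ⟨r, hr, hrn⟩ := bound (A := A) (K := K) (Module.finrank K (J → K)) (W := J → K) rfl inferInstance
    (by rw [← map_ofNat ψ]; exact (map_ne_zero ψ).2 h2) P hexp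
  rw [hS, Subgroup.card_bot, mul_one] at hr
  rw [Module.finrank_fintype_fun_eq_card, Fintype.card_sum, Fintype.card_fin, ← two_mul] at hrn
  have hcard := (radical P hexp).card_mul_index
  have hQ : 2 ^ (2 * m) ≤ 2 ^ r * (radical P hexp).index :=
    (hA.trans hcard.symm.le).trans (Nat.mul_le_mul_right _ hr)
  by_cases hrm : 2 * m ≤ r
  · have := (radical P hexp).index_ne_zero_of_finite
    have h1 : (r + 1) ^ 2 ≤ 2 * m * (2 * m) := le_trans (Nat.le_mul_of_pos_left _ (Nat.pos_of_ne_zero this)) hrn
    nlinarith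
  · have h2m : 2 ^ (2 * m - r) ≤ (radical P hexp).index := by
      refine Nat.le_of_mul_le_mul_left ?_ (Nat.two_pow_pos r)
      rw [← pow_add, Nat.add_sub_cancel' (by omega)]
      exact hQ
    have h3 := arith m (2 * m - r) r hm (by omega)
    have h4 := (Nat.mul_le_mul_right ((r + 1) ^ 2) h2m).trans hrn
    nlinarith

end CfsgLib.SignRank
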